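import Mathlib

/-!
# Metacyclic p-groups, p odd: coordinates
-/

set_option autoImplicit false
set_option linter.style.haveILetI false
set_option linter.unusedSectionVars false

open scoped commutatorElement

universe u

namespace Cfsg.Agent.Metacyclic

/-- The geometric sum. -/
def geom (q : ℤ) (t : ℕ) : ℤ := ∑ i ∈ Finset.range t, q ^ i

theorem sub_one_mul_geom (q : ℤ) (t : ℕ) : (q - 1) * geom q t = q ^ t - 1 := by
  rw [mul_comm]; exact geom_sum_mul q t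

theorem dvd_geom_iff {p : ℕ} [hp : Fact p.Prime] (hp2 : p ≠ 2) {q : ℤ} (hq : (p : ℤ) ∣ q - 1)
    (t x : ℕ) : (p : ℤ) ^ t ∣ geom q x ↔ p ^ t ∣ x := by
  rw [← Int.natCast_dvd_natCast, Nat.cast_pow]
  rcases eq_or_ne q 1 with rfl | hq1
  · simp [geom]
  rw [pow_dvd_iff_le_emultiplicity, pow_dvd_iff_le_emultiplicity]
  have hp' : Prime (p : ℤ) := Nat.prime_iff_prime_int.mp hp.out
  have hq' : ¬ (p : ℤ) ∣ q := fun h => by
    have := dvd_sub h hq
    rw [sub_sub_cancel] at this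
    exact hp'.not_isUnit (isUnit_of_dvd_one this)
  have hle := Int.emultiplicity_pow_sub_pow hp.out (hp.out.odd_of_ne_two hp2) hq hq' x
  rw [one_pow, ← sub_one_mul_geom, emultiplicity_mul hp'] at hle
  have hfin : FiniteMultiplicity (p : ℤ) (q - 1) :=
    FiniteMultiplicity.of_prime_left hp' (sub_ne_zero.mpr hq1)
  rw [hfin.emultiplicity_eq_multiplicity] at hle
  rw [WithTop.add_left_cancel (ENat.natCast_ne_top _) hle, Int.natCast_emultiplicity]

theorem dvd_of_dvd_mul_pow {p : ℤ} (hp : Prime p) (e : ℕ) {n : ℕ} {d w : ℤ}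
    (hw : ¬ p ^ (e + 1) ∣ w) (h : p ^ n ∣ d * w) : p ^ (n - e) ∣ d := by
  induction e generalizing n w with
  | zero =>
    rw [zero_add, pow_one] at hw
    exact hp.pow_dvd_of_dvd_mul_right n hw h
  | succ e ih =>
    by_cases hp1 : p ∣ w
    · obtain ⟨w', rfl⟩ := hp1
      rcases n with _ | n
      · simp
      rw [show n + 1 - (e + 1) = n - e by omega]
      refine ih (fun h' => hw (by rw [pow_succ']; exact mul_dvd_mul_left p h')) ?_
      rw [pow_succ', mul_left_comm] at h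
      exact (mul_dvd_mul_iff_left hp.ne_zero).mp h
    · exact (pow_dvd_pow p (Nat.sub_le _ _)).trans (hp.pow_dvd_of_dvd_mul_right n hp1 h)

/-- Coordinates on a metacyclic p-group. -/
structure Data (G : Type u) [Group G] (p : ℕ) where
  a : G
  b : G
  m : ℕ
  k : ℕ
  n : ℕ
  r : ℤ
  order_a : orderOf a = p ^ m
  exists_repr : ∀ g : G, ∃ (i : ℤ) (j : ℕ), g = a ^ i * b ^ j
  pow_b_mem : ∀ j : ℕ, b ^ j ∈ Subgroup.zpowers a ↔ p ^ k ∣ j
  card_G : Nat.card G = p ^ m * p ^ k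
  conj_a : b * a * b⁻¹ = a ^ r
  dvd_r : (p : ℤ) ∣ r - 1
  order_comm : orderOf (a ^ (r - 1)) = p ^ n

theorem exists_data {G : Type u} [Group G] [Finite G] {p : ℕ} [hp : Fact p.Prime] (hG : IsPGroup p G)
    (N : Subgroup G) [N.Normal] (hN : IsCyclic N) (hQ : IsCyclic (G ⧸ N)) : Nonempty (Data G p) := by
  obtain ⟨a, ha⟩ := (Subgroup.isCyclic_iff_exists_zpowers_eq_top N).mp hN
  obtain ⟨bq, hbq⟩ := hQ.exists_generator
  obtain ⟨b, rfl⟩ := QuotientGroup.mk_surjective bq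
  obtain ⟨m, hm⟩ := IsPGroup.iff_orderOf.mp hG a
  obtain ⟨k, hk⟩ := IsPGroup.iff_orderOf.mp (hG.to_quotient N) (b : G ⧸ N)
  have hmem : ∀ j : ℕ, b ^ j ∈ Subgroup.zpowers a ↔ p ^ k ∣ j := fun j => by
    rw [ha, ← hk, orderOf_dvd_iff_pow_eq_one, ← QuotientGroup.mk_pow, QuotientGroup.eq_one_iff]
  have hrep : ∀ g : G, ∃ (i : ℤ) (j : ℕ), g = a ^ i * b ^ j := by
    intro g
    obtain ⟨j, hj⟩ := (mem_powers_iff_mem_zpowers.mpr (hbq (g : G ⧸ N)))
    have : g * (b ^ j)⁻¹ ∈ N := by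
      rw [← QuotientGroup.eq_one_iff, QuotientGroup.mk_mul, QuotientGroup.mk_inv, QuotientGroup.mk_pow,
        ← hj]
      exact mul_inv_cancel _
    rw [← ha] at this
    obtain ⟨i, hi⟩ := this
    exact ⟨i, j, by rw [show a ^ i = g * (b ^ j)⁻¹ from hi]; group⟩
  have hcard : Nat.card G = p ^ m * p ^ k := by
    rw [Subgroup.card_eq_card_quotient_mul_card_subgroup N,
      ← orderOf_eq_card_of_forall_mem_zpowers hbq, hk, ← ha, Nat.card_zpowers, hm, mul_comm]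
  have haN : a ∈ N := ha ▸ Subgroup.mem_zpowers a
  obtain ⟨r, hr⟩ : ∃ r : ℤ, b * a * b⁻¹ = a ^ r := by
    have := Subgroup.Normal.conj_mem (inferInstance : N.Normal) a haN b
    rw [← ha] at this
    obtain ⟨r, hr⟩ := this
    exact ⟨r, hr.symm⟩
  rcases Nat.eq_zero_or_pos m with rfl | hm0
  · have ha1 : a = 1 := orderOf_eq_one_iff.mp (by rw [hm, pow_zero])
    exact ⟨⟨a, b, 0, k, 0, 1, hm, hrep, hmem, hcard, by simp [ha1], by simp, by simp⟩⟩
  have hdvd : (p : ℤ) ∣ r - 1 := by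
    have hpow : ∀ j : ℕ, b ^ j * a * (b ^ j)⁻¹ = a ^ (r ^ j) := by
      intro j
      induction j with
      | zero => simp
      | succ j ih =>
        calc b ^ (j + 1) * a * (b ^ (j + 1))⁻¹ = b * (b ^ j * a * (b ^ j)⁻¹) * b⁻¹ := by group
          _ = a ^ r ^ (j + 1) := by rw [ih, ← conj_zpow, hr, ← zpow_mul, pow_succ']
    obtain ⟨c, hc⟩ := Subgroup.mem_zpowers_iff.mp ((hmem (p ^ k)).mpr dvd_rfl)
    have h1 := hpow (p ^ k)
    rw [← hc] at h1
    have h2 : a ^ (r ^ p ^ k - 1) = 1 := by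
      rw [zpow_sub, ← h1, zpow_one]; group
    rw [← orderOf_dvd_iff_zpow_eq_one, hm] at h2
    have h3 : (p : ℤ) ∣ r ^ p ^ k - 1 :=
      dvd_trans (by exact_mod_cast dvd_pow_self p hm0.ne') h2
    rw [← ZMod.intCast_zmod_eq_zero_iff_dvd] at h3 ⊢
    push_cast at h3 ⊢
    rwa [ZMod.pow_card_pow] at h3
  obtain ⟨n, hn⟩ := IsPGroup.iff_orderOf.mp hG (a ^ (r - 1))
  exact ⟨⟨a, b, m, k, n, r, hm, hrep, hmem, hcard, hr, hdvd, hn⟩⟩

namespace Data

variable {G : Type u} [Group G] {p : ℕ} [hp : Fact p.Prime] (D : Data G p)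

/-- `r - 1` has valuation `s` unless `G` is commutative. -/
abbrev s : ℕ := D.m - D.n

theorem hp' : Prime (p : ℤ) := Nat.prime_iff_prime_int.mp hp.out

theorem zpow_eq_one_iff (e : ℤ) : D.a ^ e = 1 ↔ (p : ℤ) ^ D.m ∣ e := by
  rw [← orderOf_dvd_iff_zpow_eq_one, D.order_a, Nat.cast_pow]

theorem zpow_eq_zpow_iff (e e' : ℤ) : D.a ^ e = D.a ^ e' ↔ (p : ℤ) ^ D.m ∣ e - e' := by
  rw [← D.zpow_eq_one_iff, zpow_sub, mul_inv_eq_one]

theorem comm_dvd (e : ℤ) : (p : ℤ) ^ D.m ∣ (D.r - 1) * e ↔ (p : ℤ) ^ D.n ∣ e := by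
  rw [← D.zpow_eq_one_iff, zpow_mul, ← orderOf_dvd_iff_zpow_eq_one, D.order_comm, Nat.cast_pow]

theorem n_le_m : D.n ≤ D.m := by
  have h := orderOf_dvd_of_pow_eq_one (x := D.a ^ (D.r - 1)) (n := p ^ D.m) (by
    rw [← zpow_natCast, ← zpow_mul, D.zpow_eq_one_iff, Nat.cast_pow]
    exact dvd_mul_left _ _)
  rw [D.order_comm] at h
  exact (Nat.pow_dvd_pow_iff_le_right hp.out.one_lt).mp h

theorem s_add_n : D.s + D.n = D.m := Nat.sub_add_cancel D.n_le_m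

theorem pow_s_dvd : (p : ℤ) ^ D.s ∣ D.r - 1 := by
  have h := (D.comm_dvd ((p : ℤ) ^ D.n)).mpr dvd_rfl
  rw [← D.s_add_n, pow_add] at h
  exact (mul_dvd_mul_iff_right (pow_ne_zero _ hp'.ne_zero)).mp h

theorem exists_unit (hn : D.n ≠ 0) : ∃ u : ℤ, D.r - 1 = (p : ℤ) ^ D.s * u ∧ ¬ (p : ℤ) ∣ u := by
  obtain ⟨u, hu⟩ := D.pow_s_dvd
  refine ⟨u, hu, fun hd => ?_⟩
  have h : (p : ℤ) ^ D.m ∣ (D.r - 1) * (p : ℤ) ^ (D.n - 1) := by
    obtain ⟨w, rfl⟩ := hd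
    rw [hu, show D.m = D.s + (1 + (D.n - 1)) by have := D.s_add_n; omega, pow_add, pow_add]
    exact ⟨w, by rw [pow_one]; ring⟩
  have h' := (pow_dvd_pow_iff hp'.ne_zero hp'.not_isUnit).mp ((D.comm_dvd _).mp h)
  omega

theorem one_le_s (hn : D.n ≠ 0) : 1 ≤ D.s := by
  obtain ⟨u, hu, hpu⟩ := D.exists_unit hn
  by_contra h
  rw [Nat.lt_one_iff.mp (Nat.not_le.mp h), pow_zero, one_mul] at hu
  exact hpu (hu ▸ D.dvd_r)

theorem pow_s_dvd_pow_sub_one (j : ℕ) : (p : ℤ) ^ D.s ∣ D.r ^ j - 1 := by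
  rw [← sub_one_mul_geom]; exact dvd_mul_of_dvd_left D.pow_s_dvd _

theorem dvd_pow_sub_one_iff (hp2 : p ≠ 2) {t : ℕ} (ht : t ≤ D.n) (j : ℕ) :
    (p : ℤ) ^ (D.s + t) ∣ D.r ^ j - 1 ↔ p ^ t ∣ j := by
  rcases Nat.eq_zero_or_pos D.n with hn | hn
  · obtain rfl : t = 0 := by omega
    simp [D.pow_s_dvd_pow_sub_one j]
  obtain ⟨u, hu, hpu⟩ := D.exists_unit hn.ne'
  rw [← sub_one_mul_geom, hu, mul_assoc, pow_add, mul_dvd_mul_iff_left (pow_ne_zero _ hp'.ne_zero),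
    ← dvd_geom_iff hp2 D.dvd_r]
  exact ⟨hp'.pow_dvd_of_dvd_mul_left _ hpu, fun h => dvd_mul_of_dvd_right h u⟩

theorem dvd_m_iff (hp2 : p ≠ 2) (j : ℕ) : (p : ℤ) ^ D.m ∣ D.r ^ j - 1 ↔ p ^ D.n ∣ j := by
  rw [← D.dvd_pow_sub_one_iff hp2 le_rfl, D.s_add_n]

theorem b_pow_conj (j : ℕ) (i : ℤ) : D.b ^ j * D.a ^ i = D.a ^ (D.r ^ j * i) * D.b ^ j := by
  induction j generalizing i with
  | zero => simp
  | succ j ih =>
    rw [pow_succ', mul_assoc, ih, ← mul_assoc, ← mul_assoc, pow_succ' D.r, mul_assoc D.r,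
      zpow_mul D.a D.r, ← D.conj_a, conj_zpow]
    group

theorem mul_form (i k : ℤ) (j l : ℕ) :
    (D.a ^ i * D.b ^ j) * (D.a ^ k * D.b ^ l) = D.a ^ (i + D.r ^ j * k) * D.b ^ (j + l) := by
  rw [mul_assoc, ← mul_assoc (D.b ^ j), D.b_pow_conj, zpow_add, pow_add]
  simp only [mul_assoc]

theorem pow_form (i : ℤ) (j t : ℕ) :
    (D.a ^ i * D.b ^ j) ^ t = D.a ^ (i * geom (D.r ^ j) t) * D.b ^ (j * t) := by
  induction t with
  | zero => simp [geom]
  | succ t ih =>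
    rw [pow_succ', ih, D.mul_form, mul_add_one, add_comm j]
    congr 2
    simp only [geom]
    rw [geom_sum_succ]
    ring

theorem commute_iff (i k : ℤ) (j l : ℕ) : Commute (D.a ^ i * D.b ^ j) (D.a ^ k * D.b ^ l) ↔
    (p : ℤ) ^ D.m ∣ i * (D.r ^ l - 1) - k * (D.r ^ j - 1) := by
  show _ * _ = _ * _ ↔ _
  rw [D.mul_form, D.mul_form, add_comm j l, mul_left_inj, D.zpow_eq_zpow_iff,
    show i + D.r ^ j * k - (k + D.r ^ l * i) = -(i * (D.r ^ l - 1) - k * (D.r ^ j - 1)) by ring,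
    dvd_neg]

theorem mem_center_iff (hp2 : p ≠ 2) (i : ℤ) (j : ℕ) :
    D.a ^ i * D.b ^ j ∈ Subgroup.center G ↔ (p : ℤ) ^ D.n ∣ i ∧ p ^ D.n ∣ j := by
  rw [Subgroup.mem_center_iff]
  constructor
  · intro h
    have h1 := (D.commute_iff i 0 j 1).mp (h _).symm
    have h2 := (D.commute_iff i 1 j 0).mp (h _).symm
    simp only [pow_one, zero_mul, sub_zero] at h1
    simp only [pow_zero, sub_self, mul_zero, one_mul, zero_sub, dvd_neg] at h2
    exact ⟨(D.comm_dvd i).mp (mul_comm i _ ▸ h1), (D.dvd_m_iff hp2 j).mp h2⟩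
  · rintro ⟨hi, hj⟩ g
    obtain ⟨k, l, rfl⟩ := D.exists_repr g
    refine ((D.commute_iff i k j l).mpr (dvd_sub ?_ (dvd_mul_of_dvd_right ((D.dvd_m_iff hp2 j).mpr hj) _))).symm
    rw [← D.s_add_n, add_comm, pow_add]
    exact mul_dvd_mul hi (D.pow_s_dvd_pow_sub_one l)

/-- The exponent of `b ^ p ^ k` is divisible by `p ^ n`. -/
theorem pow_b_center (hp2 : p ≠ 2) {j : ℕ} {e : ℤ} (h : D.b ^ j = D.a ^ e) :
    (p : ℤ) ^ D.n ∣ e ∧ p ^ D.n ∣ j := by
  constructor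
  · rw [← D.comm_dvd, mul_comm]
    have hc : Commute (D.a ^ e * D.b ^ 0) (D.a ^ (0 : ℤ) * D.b ^ 1) := by
      simp only [pow_zero, mul_one, zpow_zero, one_mul, pow_one, ← h]
      exact (Commute.refl D.b).pow_left j
    simpa using (D.commute_iff e 0 0 1).mp hc
  · rw [← D.dvd_m_iff hp2]
    have hc : Commute (D.a ^ (1 : ℤ) * D.b ^ 0) (D.a ^ (0 : ℤ) * D.b ^ j) := by
      simp only [pow_zero, mul_one, zpow_zero, one_mul, h]
      exact (Commute.refl D.a).zpow_zpow 1 e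
    simpa using (D.commute_iff 1 0 0 j).mp hc

theorem congr_coord (hp2 : p ≠ 2) {i i' : ℤ} {j j' : ℕ}
    (h : D.a ^ i * D.b ^ j = D.a ^ i' * D.b ^ j') :
    (p : ℤ) ^ D.n ∣ i - i' ∧ (p : ℤ) ^ D.n ∣ (j : ℤ) - j' := by
  wlog hjj : j' ≤ j generalizing i i' j j'
  · obtain ⟨h1, h2⟩ := this h.symm (Nat.le_of_not_le hjj)
    exact ⟨dvd_sub_comm.mp h1, dvd_sub_comm.mp h2⟩
  obtain ⟨d, rfl⟩ := Nat.exists_eq_add_of_le hjj
  have hb : D.b ^ d = D.a ^ (i' - i) := by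
    rw [add_comm j' d, pow_add, ← mul_assoc, mul_left_inj] at h
    rw [sub_eq_neg_add, zpow_add, ← h]
    group
  obtain ⟨h1, h2⟩ := D.pow_b_center hp2 hb
  refine ⟨dvd_sub_comm.mp h1, ?_⟩
  push_cast
  rw [add_sub_cancel_left]
  exact_mod_cast h2

theorem mul_self_form (i : ℤ) (j : ℕ) (t : ℕ) (hi : (p : ℤ) ^ t ∣ i) (hj : p ^ t ∣ j) (k : ℤ) (l : ℕ)
    (hk : (p : ℤ) ^ t ∣ k) (hl : p ^ t ∣ l) :
    ∃ (e : ℤ) (f : ℕ), (D.a ^ i * D.b ^ j) * (D.a ^ k * D.b ^ l) = D.a ^ e * D.b ^ f ∧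
      (p : ℤ) ^ t ∣ e ∧ p ^ t ∣ f :=
  ⟨_, _, D.mul_form i k j l, dvd_add hi (dvd_mul_of_dvd_right hk _), dvd_add hj hl⟩

variable [Finite G]

/-- The subgroup of elements with both coordinates divisible by `p ^ t`. -/
def layer (t : ℕ) : Subgroup G :=
  { Submonoid.closure {g | ∃ (i : ℤ) (j : ℕ), g = D.a ^ i * D.b ^ j ∧ (p : ℤ) ^ t ∣ i ∧ p ^ t ∣ j} with
    inv_mem' := fun {g} hg => by
      have h : g ^ (orderOf g - 1) ∈ Submonoid.closure
          {g | ∃ (i : ℤ) (j : ℕ), g = D.a ^ i * D.b ^ j ∧ (p : ℤ) ^ t ∣ i ∧ p ^ t ∣ j} := pow_mem hg _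
      have e : g⁻¹ = g ^ (orderOf g - 1) := by
        refine inv_eq_of_mul_eq_one_right ?_
        rw [← pow_succ', Nat.sub_add_cancel (orderOf_pos g), pow_orderOf_eq_one]
      rw [e]
      exact h }

theorem mem_layer (t : ℕ) {g : G} : g ∈ D.layer t ↔
    ∃ (i : ℤ) (j : ℕ), g = D.a ^ i * D.b ^ j ∧ (p : ℤ) ^ t ∣ i ∧ p ^ t ∣ j := by
  refine ⟨fun h => ?_, fun h => Submonoid.subset_closure h⟩
  change g ∈ Submonoid.closure _ at h
  induction h using Submonoid.closure_induction with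
  | mem x hx => exact hx
  | one => exact ⟨0, 0, by simp, dvd_zero _, dvd_zero _⟩
  | mul x y _ _ hx hy =>
    obtain ⟨i, j, rfl, hi, hj⟩ := hx
    obtain ⟨k, l, rfl, hk, hl⟩ := hy
    exact D.mul_self_form i j t hi hj k l hk hl

theorem mem_layer_iff (hp2 : p ≠ 2) {t : ℕ} (ht : t ≤ D.n) (i : ℤ) (j : ℕ) :
    D.a ^ i * D.b ^ j ∈ D.layer t ↔ (p : ℤ) ^ t ∣ i ∧ p ^ t ∣ j := by
  refine ⟨fun h => ?_, fun h => (D.mem_layer t).mpr ⟨i, j, rfl, h⟩⟩
  obtain ⟨i', j', he, hi, hj⟩ := (D.mem_layer t).mp h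
  obtain ⟨h1, h2⟩ := D.congr_coord hp2 he
  have hpt : (p : ℤ) ^ t ∣ (p : ℤ) ^ D.n := pow_dvd_pow _ ht
  have hj' : (p : ℤ) ^ t ∣ (j' : ℤ) := by exact_mod_cast hj
  refine ⟨(dvd_sub_left hi).mp (hpt.trans h1), ?_⟩
  exact_mod_cast (dvd_sub_left hj').mp (hpt.trans h2)

theorem layer_n (hp2 : p ≠ 2) : D.layer D.n = Subgroup.center G := by
  ext g
  obtain ⟨i, j, rfl⟩ := D.exists_repr g
  rw [D.mem_layer_iff hp2 le_rfl, D.mem_center_iff hp2]

theorem n_le_k (hp2 : p ≠ 2) : D.n ≤ D.k := by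
  obtain ⟨c, hc⟩ := Subgroup.mem_zpowers_iff.mp ((D.pow_b_mem _).mpr (dvd_refl (p ^ D.k)))
  exact (Nat.pow_dvd_pow_iff_le_right hp.out.one_lt).mp (D.pow_b_center hp2 hc.symm).2

/-- The layers have index `p ^ (2 t)`. -/
theorem index_layer (hp2 : p ≠ 2) {t : ℕ} (ht : t ≤ D.n) : (D.layer t).index = p ^ (2 * t) := by
  choose I J hIJ using D.exists_repr
  haveI : NeZero (p ^ t) := ⟨pow_ne_zero _ hp.out.ne_zero⟩
  let f : G → ZMod (p ^ t) × ZMod (p ^ t) := fun g => ((I g : ℤ), (J g : ℕ))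
  have hpt : ((p ^ t : ℕ) : ℤ) ∣ (p : ℤ) ^ D.n := by rw [Nat.cast_pow]; exact pow_dvd_pow _ ht
  have hf : ∀ (i : ℤ) (j : ℕ), f (D.a ^ i * D.b ^ j) = ((i : ZMod (p ^ t)), (j : ZMod (p ^ t))) := by
    intro i j
    obtain ⟨h1, h2⟩ := D.congr_coord hp2 (hIJ (D.a ^ i * D.b ^ j)).symm
    refine Prod.ext ?_ ?_
    · exact (ZMod.intCast_eq_intCast_iff_dvd_sub _ _ _).mpr (dvd_sub_comm.mp (hpt.trans h1))
    · show ((J _ : ℕ) : ZMod (p ^ t)) = (j : ZMod (p ^ t))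
      rw [← Int.cast_natCast, ← Int.cast_natCast j]
      exact (ZMod.intCast_eq_intCast_iff_dvd_sub _ _ _).mpr (dvd_sub_comm.mp (hpt.trans h2))
  have hiff : ∀ x y, f x = f y ↔ x⁻¹ * y ∈ D.layer t := by
    intro x y
    obtain ⟨k, l, hw⟩ := D.exists_repr (x⁻¹ * y)
    obtain ⟨i, j, rfl⟩ := D.exists_repr x
    have hy : y = D.a ^ (i + D.r ^ j * k) * D.b ^ (j + l) := by
      rw [← D.mul_form, ← hw, mul_inv_cancel_left]
    rw [hw, D.mem_layer_iff hp2 ht, hy, hf, hf, Prod.mk.injEq]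
    push_cast
    rw [left_eq_add, left_eq_add, ZMod.natCast_eq_zero_iff, ← Nat.cast_pow]
    refine and_congr ?_ Iff.rfl
    rw [← Int.cast_pow, ← Int.cast_mul, ZMod.intCast_zmod_eq_zero_iff_dvd, Nat.cast_pow]
    refine ⟨fun h => ?_, fun h => dvd_mul_of_dvd_right h _⟩
    refine hp'.pow_dvd_of_dvd_mul_left _ (fun hd => ?_) h
    have h1 : (p : ℤ) ∣ D.r ^ j - 1 := by
      rw [← sub_one_mul_geom]; exact dvd_mul_of_dvd_left D.dvd_r _
    have := dvd_sub hd h1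
    rw [sub_sub_cancel] at this
    exact (hp' (p := p)).not_isUnit (isUnit_of_dvd_one this)
  have hsurj : Function.Surjective f := fun ⟨x, y⟩ =>
    ⟨D.a ^ (x.val : ℤ) * D.b ^ y.val, by rw [hf]; simp⟩
  let F : G ⧸ D.layer t → ZMod (p ^ t) × ZMod (p ^ t) :=
    Quotient.lift f fun x y h => (hiff x y).mpr (QuotientGroup.leftRel_apply.mp h)
  have hF : Function.Bijective F := by
    refine ⟨fun x y => ?_, fun z => ?_⟩
    · induction x using QuotientGroup.induction_on with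
      | _ x =>
      induction y using QuotientGroup.induction_on with
      | _ y => exact fun h => QuotientGroup.eq.mpr ((hiff x y).mp h)
    · obtain ⟨g, hg⟩ := hsurj z
      exact ⟨(g : G ⧸ D.layer t), hg⟩
  rw [Subgroup.index, Nat.card_congr (Equiv.ofBijective F hF), Nat.card_prod, Nat.card_zmod, ← pow_add,
    two_mul]

theorem card_comm_subgroup {e : ℕ} (he : e ≤ D.n) :
    orderOf (D.a ^ ((p : ℤ) ^ (D.s + e))) = p ^ (D.n - e) := by
  have hle : D.s + e ≤ D.m := by have := D.s_add_n; omega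
  rw [← Nat.cast_pow, zpow_natCast, orderOf_pow' _ (pow_ne_zero _ hp.out.ne_zero), D.order_a,
    Nat.gcd_eq_right (pow_dvd_pow p hle), Nat.pow_div hle hp.out.pos]
  congr 1
  have := D.s_add_n; omega

theorem conj_form (i k : ℤ) (j l : ℕ) :
    (D.a ^ k * D.b ^ l) * (D.a ^ i * D.b ^ j) * (D.a ^ k * D.b ^ l)⁻¹ =
      D.a ^ (i * (D.r ^ l - 1) - k * (D.r ^ j - 1)) * (D.a ^ i * D.b ^ j) := by
  rw [mul_inv_eq_iff_eq_mul, mul_assoc (D.a ^ (_ - _)), D.mul_form, D.mul_form, ← mul_assoc,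
    ← zpow_add, add_comm l j]
  congr 2
  ring

theorem index_centralizer (g : G) :
    (Subgroup.centralizer ({g} : Set G)).index = (MulAction.orbit (ConjAct G) g).ncard := by
  rw [Subgroup.centralizer_eq_comap_stabilizer]
  refine (Subgroup.index_comap_of_surjective _ ConjAct.toConjAct.surjective).trans ?_
  rw [MulAction.index_stabilizer]

theorem index_centralizer_le {e : ℕ} (he : e ≤ D.n) (hp2 : p ≠ 2) {g : G} (hg : g ∈ D.layer e) :
    (Subgroup.centralizer ({g} : Set G)).index ≤ p ^ (D.n - e) := by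
  obtain ⟨i, j, rfl, hi, hj⟩ := (D.mem_layer e).mp hg
  rw [index_centralizer, ← D.card_comm_subgroup he, ← Nat.card_zpowers, ← Nat.card_coe_set_eq]
  refine Nat.card_le_card_of_injective
    (fun x => (⟨(x : G) * (D.a ^ i * D.b ^ j)⁻¹, ?_⟩ : Subgroup.zpowers (D.a ^ ((p : ℤ) ^ (D.s + e)))))
    fun x y h => Subtype.ext (mul_right_cancel (congrArg Subtype.val h))
  obtain ⟨c, hc⟩ := x.2
  obtain ⟨k, l, hkl⟩ := D.exists_repr (ConjAct.ofConjAct c)
  have hx : (x : G) = (D.a ^ k * D.b ^ l) * (D.a ^ i * D.b ^ j) * (D.a ^ k * D.b ^ l)⁻¹ := by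
    rw [← hc, ← hkl]; rfl
  rw [hx, D.conj_form, mul_inv_cancel_right]
  obtain ⟨w, hw⟩ : (p : ℤ) ^ (D.s + e) ∣ i * (D.r ^ l - 1) - k * (D.r ^ j - 1) :=
    dvd_sub (by rw [pow_add, mul_comm]; exact mul_dvd_mul hi (D.pow_s_dvd_pow_sub_one l))
      (dvd_mul_of_dvd_right ((D.dvd_pow_sub_one_iff hp2 he j).mpr hj) k)
  rw [hw, zpow_mul]
  exact zpow_mem (Subgroup.mem_zpowers _) w

theorem le_index_centralizer {e : ℕ} (he : e < D.n) (hp2 : p ≠ 2) {g : G}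
    (hg : g ∉ D.layer (e + 1)) : p ^ (D.n - e) ≤ (Subgroup.centralizer ({g} : Set G)).index := by
  obtain ⟨i, j, rfl⟩ := D.exists_repr g
  rw [D.mem_layer_iff hp2 he, not_and_or] at hg
  rw [index_centralizer, ← Nat.card_coe_set_eq, ← Nat.card_fin (p ^ (D.n - e))]
  have hsn := D.s_add_n
  -- a difference of exponents killed by a nonzero coordinate
  have key : ∀ x y : Fin (p ^ (D.n - e)), (p : ℤ) ^ (D.n - e) ∣ ((x : ℕ) : ℤ) - (y : ℕ) → x = y := by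
    intro x y h
    rw [← Nat.cast_pow] at h
    refine Fin.ext (Int.natCast_inj.mp (sub_eq_zero.mp (Int.eq_zero_of_abs_lt_dvd h ?_)))
    have hx := x.isLt
    have hy := y.isLt
    rw [abs_lt]
    omega
  rcases hg with hi | hj
  · -- conjugation by powers of `b`
    refine Nat.card_le_card_of_injective (fun x : Fin (p ^ (D.n - e)) =>
      (⟨_, MulAction.mem_orbit _ (ConjAct.toConjAct (D.a ^ (0 : ℤ) * D.b ^ (x : ℕ)))⟩ :
        MulAction.orbit (ConjAct G) (D.a ^ i * D.b ^ j))) fun x y h => ?_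
    have h' := congrArg Subtype.val h
    simp only [ConjAct.toConjAct_smul, D.conj_form, zero_mul, sub_zero, mul_left_inj, D.zpow_eq_zpow_iff] at h'
    wlog hxy : (y : ℕ) ≤ x generalizing x y
    · exact (this y x h.symm (by rw [← dvd_neg, neg_sub]; exact h') (by omega)).symm
    refine key x y ?_
    rw [← Nat.cast_sub hxy]
    rw [← mul_sub, sub_sub_sub_cancel_right, show (x : ℕ) = (y : ℕ) + ((x : ℕ) - y) by omega,
      pow_add, ← mul_sub_one, mul_left_comm] at h'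
    have hr : ¬ (p : ℤ) ∣ D.r ^ (y : ℕ) := fun hd => by
      have := dvd_sub (hp'.dvd_of_dvd_pow hd) D.dvd_r
      rw [sub_sub_cancel] at this
      exact (hp' (p := p)).not_isUnit (isUnit_of_dvd_one this)
    have h2 := hp'.pow_dvd_of_dvd_mul_left _ hr h'
    obtain ⟨u, hu, hpu⟩ := D.exists_unit (by omega)
    rw [← sub_one_mul_geom, hu, ← hsn, pow_add, mul_assoc ((p : ℤ) ^ D.s), mul_left_comm,
      mul_dvd_mul_iff_left (pow_ne_zero _ hp'.ne_zero), mul_left_comm] at h2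
    have h3 := hp'.pow_dvd_of_dvd_mul_left _ hpu h2
    rw [mul_comm] at h3
    have h4 := dvd_of_dvd_mul_pow hp' e hi h3
    rw [dvd_geom_iff hp2 D.dvd_r] at h4
    exact_mod_cast h4
  · -- conjugation by powers of `a`
    refine Nat.card_le_card_of_injective (fun x : Fin (p ^ (D.n - e)) =>
      (⟨_, MulAction.mem_orbit _ (ConjAct.toConjAct (D.a ^ ((x : ℕ) : ℤ) * D.b ^ 0))⟩ :
        MulAction.orbit (ConjAct G) (D.a ^ i * D.b ^ j))) fun x y h => ?_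
    have h' := congrArg Subtype.val h
    simp only [ConjAct.toConjAct_smul, D.conj_form, mul_left_inj, D.zpow_eq_zpow_iff] at h'
    refine key x y (dvd_sub_comm.mp ?_)
    rw [sub_sub_sub_cancel_left, ← sub_mul, ← sub_one_mul_geom] at h'
    have h2 : (p : ℤ) ^ D.n ∣ ((y : ℕ) - (x : ℕ) : ℤ) * geom D.r j :=
      (D.comm_dvd _).mp (by rwa [mul_left_comm] at h')
    refine dvd_of_dvd_mul_pow hp' e ?_ h2
    rw [dvd_geom_iff hp2 D.dvd_r]
    exact hj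

theorem index_centralizer_le_iff (hp2 : p ≠ 2) {t : ℕ} (ht : t ≤ D.n) (g : G) :
    (Subgroup.centralizer ({g} : Set G)).index ≤ p ^ (D.n - t) ↔ g ∈ D.layer t := by
  refine ⟨fun h => ?_, D.index_centralizer_le ht hp2⟩
  by_contra hg
  rcases t with _ | t
  · obtain ⟨i, j, rfl⟩ := D.exists_repr g
    exact hg ((D.mem_layer 0).mpr ⟨i, j, rfl, by simp, by simp⟩)
  · have h' := (D.le_index_centralizer (e := t) (by omega) hp2 hg).trans h
    have := (Nat.pow_le_pow_iff_right hp.out.one_lt).mp h'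
    omega

theorem layer_anti {t t' : ℕ} (h : t ≤ t') : D.layer t' ≤ D.layer t := fun g hg => by
  obtain ⟨i, j, rfl, hi, hj⟩ := (D.mem_layer t').mp hg
  exact (D.mem_layer t).mpr ⟨i, j, rfl, (pow_dvd_pow _ h).trans hi, (pow_dvd_pow _ h).trans hj⟩

theorem layer_zero : D.layer 0 = ⊤ := eq_top_iff.mpr fun g _ => by
  obtain ⟨i, j, rfl⟩ := D.exists_repr g
  exact (D.mem_layer 0).mpr ⟨i, j, rfl, by simp, by simp⟩

theorem commutator_eq : commutator G = Subgroup.zpowers (D.a ^ (D.r - 1)) := by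
  refine le_antisymm ?_ (Subgroup.zpowers_le.mpr ?_)
  · rw [commutator_def, Subgroup.commutator_le]
    intro x _ y _
    obtain ⟨k, l, rfl⟩ := D.exists_repr x
    obtain ⟨i, j, rfl⟩ := D.exists_repr y
    rw [commutatorElement_def, D.conj_form, mul_inv_cancel_right, ← sub_one_mul_geom,
      ← sub_one_mul_geom, show i * ((D.r - 1) * geom D.r l) - k * ((D.r - 1) * geom D.r j) =
        (D.r - 1) * (i * geom D.r l - k * geom D.r j) by ring, zpow_mul]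
    exact zpow_mem (Subgroup.mem_zpowers _) _
  · have : D.a ^ (D.r - 1) = ⁅D.b, D.a⁆ := by
      rw [commutatorElement_def, D.conj_a, zpow_sub_one]
    rw [this]
    exact Subgroup.commutator_mem_commutator (Subgroup.mem_top _) (Subgroup.mem_top _)

theorem card_commutator : Nat.card (commutator G) = p ^ D.n := by
  rw [D.commutator_eq, Nat.card_zpowers, D.order_comm]

theorem index_center (hp2 : p ≠ 2) : (Subgroup.center G).index = p ^ (2 * D.n) := by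
  rw [← D.layer_n hp2, D.index_layer hp2 le_rfl]

theorem pow_prime_pow_mem_layer (hp2 : p ≠ 2) (g : G) (t : ℕ) : g ^ p ^ t ∈ D.layer t := by
  obtain ⟨i, j, rfl⟩ := D.exists_repr g
  rw [D.pow_form]
  refine (D.mem_layer t).mpr ⟨_, _, rfl, dvd_mul_of_dvd_right ?_ _, dvd_mul_left _ _⟩
  rw [dvd_geom_iff hp2]
  rw [← sub_one_mul_geom]
  exact dvd_mul_of_dvd_left D.dvd_r _

theorem layer_eq_closure_pow (hp2 : p ≠ 2) (t : ℕ) :
    D.layer t = Subgroup.closure {x : G | ∃ y : G, y ^ p ^ t = x} := by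
  refine le_antisymm (fun g hg => ?_) ((Subgroup.closure_le _).mpr ?_)
  · obtain ⟨i, j, rfl, ⟨i', rfl⟩, ⟨j', rfl⟩⟩ := (D.mem_layer t).mp hg
    refine mul_mem (Subgroup.subset_closure ⟨D.a ^ i', ?_⟩) (Subgroup.subset_closure ⟨D.b ^ j', ?_⟩)
    · rw [← zpow_natCast, ← zpow_mul, mul_comm, Nat.cast_pow]
    · rw [← pow_mul, mul_comm]
  · rintro _ ⟨y, rfl⟩
    exact D.pow_prime_pow_mem_layer hp2 y t

end Data

end Cfsg.Agent.Metacyclic
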