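import Mathlib
import Cfsg.Prelude.Def_OddOrderLocal
import Cfsg.Agent.Lib.Metacyclic.Basic
import Cfsg.Agent.Lib.Basics.Tools
import Cfsg.Agent.Lib.Basics.Cores

/-!
# Metacyclic p-groups, p odd: subgroups and centralizers
-/

set_option autoImplicit false
set_option linter.style.haveILetI false
set_option linter.unusedSectionVars false

open scoped commutatorElement

universe u

namespace Cfsg.Agent.Metacyclic

variable {G : Type u} [Group G] [Finite G] {p : ℕ} [hp : Fact p.Prime]

theorem nonempty_data (hG : IsPGroup p G) (hmc : Cfsg.IsMetacyclic G) : Nonempty (Data G p) := by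
  obtain ⟨N, hN, h1, h2⟩ := hmc
  exact exists_data hG N h1 h2

omit [Finite G] in
theorem isMetacyclic_subgroup (hmc : Cfsg.IsMetacyclic G) (H : Subgroup G) :
    Cfsg.IsMetacyclic H := by
  obtain ⟨N, hN, h1, h2⟩ := hmc
  refine ⟨N.subgroupOf H, inferInstance, ?_, ?_⟩
  · let f : N.subgroupOf H →* N := (H.subtype.comp (N.subgroupOf H).subtype).codRestrict N fun x => x.2
    exact isCyclic_of_injective f fun a b hab =>
      Subtype.ext (Subtype.ext (congrArg (fun z : N => (z : G)) hab))
  · let f : H ⧸ N.subgroupOf H →* G ⧸ N :=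
      QuotientGroup.map _ N H.subtype (fun x hx => hx)
    refine isCyclic_of_injective f ((injective_iff_map_eq_one _).mpr fun x hx => ?_)
    obtain ⟨y, rfl⟩ := QuotientGroup.mk_surjective x
    exact (QuotientGroup.eq_one_iff y).mpr
      (Subgroup.mem_subgroupOf.mpr ((QuotientGroup.eq_one_iff (y : G)).mp hx))

variable (hp2 : p ≠ 2) (hG : IsPGroup p G) (hmc : Cfsg.IsMetacyclic G)
include hp2 hG hmc

theorem index_center_eq : (Subgroup.center G).index = Nat.card (commutator G) ^ 2 := by
  obtain ⟨D⟩ := nonempty_data hG hmc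
  rw [D.index_center hp2, D.card_commutator, ← pow_mul, mul_comm]

/-- `|Z(G)| |G'|² = |G|`. -/
theorem card_center_mul : Nat.card (Subgroup.center G) * Nat.card (commutator G) ^ 2 = Nat.card G := by
  rw [← index_center_eq hp2 hG hmc, Subgroup.card_mul_index]

/-- A maximal subgroup has derived subgroup of index `p` in `G'`. -/
theorem card_commutator_maximal (M : Subgroup G) (hM : IsCoatom M) (hna : ¬ IsMulCommutative G) :
    p * Nat.card ↥(⁅M, M⁆ : Subgroup G) = Nat.card (commutator G) := by
  obtain ⟨D⟩ := nonempty_data hG hmc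
  have hn : D.n ≠ 0 := by
    intro hn
    apply hna
    have hc := D.card_commutator
    rw [hn, pow_zero, Subgroup.card_eq_one, commutator_def,
      Subgroup.commutator_eq_bot_iff_le_centralizer] at hc
    exact ⟨⟨fun x y => Subgroup.mem_centralizer_iff.mp (hc (Subgroup.mem_top y)) x (Subgroup.mem_top x)⟩⟩
  have hs := D.one_le_s hn
  haveI := hG.isNilpotent
  haveI : M.Normal := Subgroup.NormalizerCondition.normal_of_coatom M Group.normalizerCondition_of_isNilpotent hM
  have hidx : M.index = p := by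
    haveI : Nontrivial (G ⧸ M) := QuotientGroup.nontrivial_iff.mpr hM.1
    have hsimple : IsSimpleGroup (G ⧸ M) := by
      refine ⟨fun K _ => ?_⟩
      rcases hM.le_iff.mp (QuotientGroup.le_comap_mk' M K) with h | h
      · exact Or.inr (eq_top_iff.mpr fun x _ => by
          obtain ⟨y, rfl⟩ := QuotientGroup.mk'_surjective M x
          exact h.ge (Subgroup.mem_top y))
      · refine Or.inl (eq_bot_iff.mpr fun x hx => ?_)
        obtain ⟨y, rfl⟩ := QuotientGroup.mk'_surjective M x
        exact (QuotientGroup.eq_one_iff y).mpr (h.le hx)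
    haveI := hsimple
    have := (hG.to_quotient M).center_nontrivial
    haveI : IsMulCommutative (G ⧸ M) := by
      rcases Subgroup.Normal.eq_bot_or_eq_top (inferInstance : (Subgroup.center (G ⧸ M)).Normal) with h | h
      · exact absurd h ((Subgroup.nontrivial_iff_ne_bot _).mp this)
      · exact Subgroup.center_eq_top_iff.mp h
    letI : CommGroup (G ⧸ M) :=
      { (inferInstance : Group (G ⧸ M)) with mul_comm := mul_comm' }
    have hpr : (Nat.card (G ⧸ M)).Prime := IsSimpleGroup.prime_card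
    obtain ⟨e, he⟩ := IsPGroup.iff_card.mp (hG.to_quotient M)
    have hpd : Nat.card (G ⧸ M) ∣ p := hpr.dvd_of_dvd_pow (dvd_of_eq he)
    exact (Nat.prime_dvd_prime_iff_eq hpr hp.out).mp hpd
  have hpow : ∀ g : G, g ^ p ∈ M := fun g => hidx ▸ Subgroup.pow_index_mem M g
  -- coordinates of elements of `M` are congruent to those of one element
  obtain ⟨e₁, e₂, hmem, hwit⟩ : ∃ (x y : ℤ), (∀ (i : ℤ) (j : ℕ), D.a ^ i * D.b ^ j ∈ M →
      (p : ℤ) ∣ x * i + y * j) ∧ ¬ ((p : ℤ) ∣ x ∧ (p : ℤ) ∣ y) := by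
    by_cases ha : D.a ∈ M
    · refine ⟨0, 1, fun i j h => ?_, fun h => (Data.hp' (p := p)).not_isUnit (isUnit_of_dvd_one h.2)⟩
      rw [Subgroup.mul_mem_cancel_left _ (zpow_mem ha i)] at h
      rw [zero_mul, zero_add, one_mul, Int.natCast_dvd_natCast]
      by_contra hj
      refine hM.1 (eq_top_iff.mpr fun g _ => ?_)
      obtain ⟨k, l, rfl⟩ := D.exists_repr g
      refine mul_mem (zpow_mem ha k) ?_
      obtain ⟨z, hz⟩ : ∃ z : ℤ × ℤ, (j : ℤ) * z.1 + p * z.2 = 1 := by
        have hc : j.gcd p = 1 := Nat.coprime_comm.mp (hp.out.coprime_iff_not_dvd.mpr hj)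
        refine ⟨(j.gcdA p, j.gcdB p), ?_⟩
        rw [← Nat.gcd_eq_gcd_ab, hc, Nat.cast_one]
      have : D.b = (D.b ^ j) ^ z.1 * (D.b ^ p) ^ z.2 := by
        rw [← zpow_natCast, ← zpow_natCast D.b p, ← zpow_mul, ← zpow_mul, ← zpow_add, hz, zpow_one]
      rw [this]
      exact pow_mem (mul_mem (zpow_mem h _) (zpow_mem (hpow D.b) _)) l
    · -- `G/M` is generated by the image of `a`
      have ha1 : ((D.a : G) : G ⧸ M) ≠ 1 := fun h => ha ((QuotientGroup.eq_one_iff _).mp h)
      obtain ⟨t, ht⟩ := Subgroup.mem_zpowers_iff.mp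
        (mem_zpowers_of_prime_card (p := p) hidx ha1 (g' := ((D.b : G) : G ⧸ M)))
      refine ⟨1, t, fun i j h => ?_, fun h => (Data.hp' (p := p)).not_isUnit (isUnit_of_dvd_one h.1)⟩
      have h1 : ((D.a ^ i * D.b ^ j : G) : G ⧸ M) = 1 := (QuotientGroup.eq_one_iff _).mpr h
      rw [QuotientGroup.mk_mul, QuotientGroup.mk_zpow, QuotientGroup.mk_pow, ← ht, ← zpow_natCast,
        ← zpow_mul, ← zpow_add, ← orderOf_dvd_iff_zpow_eq_one] at h1
      rw [orderOf_eq_prime (by rw [← QuotientGroup.mk_pow, QuotientGroup.eq_one_iff]; exact hpow _) ha1] at h1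
      rw [one_mul]
      exact h1
  have hlin : ∀ l : ℕ, (p : ℤ) ^ (D.s + 1) ∣ D.r ^ l - 1 - l * (D.r - 1) := by
    intro l
    induction l with
    | zero => simp
    | succ l ih =>
      rw [show D.r ^ (l + 1) - 1 - ((l + 1 : ℕ) : ℤ) * (D.r - 1) =
        D.r * (D.r ^ l - 1 - l * (D.r - 1)) + (l : ℤ) * ((D.r - 1) * (D.r - 1)) by push_cast; ring]
      refine dvd_add (dvd_mul_of_dvd_right ih _) (dvd_mul_of_dvd_right ?_ _)
      rw [pow_succ]
      exact mul_dvd_mul D.pow_s_dvd D.dvd_r
  have hcard : Nat.card ↥(⁅M, M⁆ : Subgroup G) = p ^ (D.n - 1) := by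
    have hle : ⁅M, M⁆ ≤ Subgroup.zpowers (D.a ^ ((p : ℤ) ^ (D.s + 1))) := by
      rw [Subgroup.commutator_le]
      intro x hx y hy
      obtain ⟨k, l, rfl⟩ := D.exists_repr x
      obtain ⟨i, j, rfl⟩ := D.exists_repr y
      rw [commutatorElement_def, D.conj_form, mul_inv_cancel_right]
      have hd : (p : ℤ) ^ (D.s + 1) ∣ i * (D.r ^ l - 1) - k * (D.r ^ j - 1) := by
        rw [show i * (D.r ^ l - 1) - k * (D.r ^ j - 1) = i * (D.r ^ l - 1 - l * (D.r - 1)) -
          k * (D.r ^ j - 1 - j * (D.r - 1)) + (D.r - 1) * (i * l - k * j) by ring]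
        refine dvd_add (dvd_sub (dvd_mul_of_dvd_right (hlin l) _) (dvd_mul_of_dvd_right (hlin j) _)) ?_
        rw [pow_succ]
        refine mul_dvd_mul D.pow_s_dvd ?_
        have h1 := hmem i j hy
        have h2 := hmem k l hx
        rcases not_and_or.mp hwit with hw | hw
        · refine ((Data.hp' (p := p)).dvd_or_dvd (a := e₁) ?_).resolve_left hw
          rw [show e₁ * (i * (l : ℤ) - k * j) = (e₁ * i + e₂ * j) * l - (e₁ * k + e₂ * l) * j by ring]
          exact dvd_sub (dvd_mul_of_dvd_left h1 _) (dvd_mul_of_dvd_left h2 _)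
        · refine ((Data.hp' (p := p)).dvd_or_dvd (a := e₂) ?_).resolve_left hw
          rw [show e₂ * (i * (l : ℤ) - k * j) = (e₁ * k + e₂ * l) * i - (e₁ * i + e₂ * j) * k by ring]
          exact dvd_sub (dvd_mul_of_dvd_left h2 _) (dvd_mul_of_dvd_left h1 _)
      obtain ⟨w, hw⟩ := hd
      rw [hw, zpow_mul]
      exact zpow_mem (Subgroup.mem_zpowers _) w
    have hup := Subgroup.card_le_of_le hle
    rw [Nat.card_zpowers, D.card_comm_subgroup (Nat.one_le_iff_ne_zero.mpr hn)] at hup
    refine le_antisymm hup ?_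
    -- a commutator generating a subgroup of order `p ^ (n - 1)`
    obtain ⟨x, hx, y, hy, e, he, hxy⟩ : ∃ x ∈ M, ∃ y ∈ M, ∃ e : ℤ, ¬ (p : ℤ) ^ (D.s + 2) ∣ e ∧
        ⁅x, y⁆ = D.a ^ e := by
      obtain ⟨u, hu, hpu⟩ := D.exists_unit hn
      by_cases ha : D.a ∈ M
      · refine ⟨D.b ^ p, hpow _, D.a, ha, D.r ^ p - 1, ?_, ?_⟩
        · intro hd
          rw [← sub_one_mul_geom, hu, mul_assoc, show D.s + 2 = D.s + (1 + 1) by omega, pow_add,
            mul_dvd_mul_iff_left (pow_ne_zero _ (Data.hp' (p := p)).ne_zero)] at hd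
          have h' := (dvd_geom_iff hp2 D.dvd_r 2 p).mp ((Data.hp' (p := p)).pow_dvd_of_dvd_mul_left _ hpu hd)
          exact absurd (Nat.le_of_dvd hp.out.pos h') (by nlinarith [hp.out.two_le])
        · rw [commutatorElement_def]
          have h := D.conj_form 1 0 0 p
          simp only [zpow_zero, pow_zero, one_mul, mul_one, zpow_one, zero_mul, sub_zero] at h
          rw [h, mul_inv_cancel_right]
      · have ha1 : ((D.a : G) : G ⧸ M) ≠ 1 := fun h => ha ((QuotientGroup.eq_one_iff _).mp h)
        obtain ⟨t, ht⟩ := Subgroup.mem_zpowers_iff.mp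
          (mem_zpowers_of_prime_card (p := p) hidx ha1 (g' := ((D.b : G) : G ⧸ M)))
        refine ⟨D.a ^ (-t) * D.b ^ 1, ?_, D.a ^ ((p : ℤ)) * D.b ^ 0, ?_, p * (D.r - 1), ?_, ?_⟩
        · rw [← QuotientGroup.eq_one_iff, QuotientGroup.mk_mul, QuotientGroup.mk_zpow, pow_one, ← ht,
            ← zpow_add]
          simp
        · rw [pow_zero, mul_one, zpow_natCast]; exact hpow _
        · intro hd
          rw [hu, mul_left_comm, show D.s + 2 = D.s + (1 + 1) by omega, pow_add,
            mul_dvd_mul_iff_left (pow_ne_zero _ (Data.hp' (p := p)).ne_zero), pow_succ, pow_one,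
            mul_dvd_mul_iff_left (Data.hp' (p := p)).ne_zero] at hd
          exact hpu hd
        · rw [commutatorElement_def, D.conj_form, mul_inv_cancel_right]
          congr 1
          ring
    have hmemc := Subgroup.zpowers_le.mpr (hxy ▸ Subgroup.commutator_mem_commutator hx hy :
      D.a ^ e ∈ ⁅M, M⁆)
    refine le_trans ?_ (Subgroup.card_le_of_le hmemc)
    rw [Nat.card_zpowers]
    obtain ⟨d, hd⟩ := IsPGroup.iff_orderOf.mp hG (D.a ^ e)
    rw [hd]
    refine Nat.pow_le_pow_right hp.out.pos ?_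
    by_contra hlt
    apply he
    have h1 : (D.a ^ e) ^ (p ^ d) = 1 := by rw [← hd, pow_orderOf_eq_one]
    rw [← zpow_natCast, ← zpow_mul, D.zpow_eq_one_iff, Nat.cast_pow] at h1
    have hm : D.m = (D.s + 2) + d + (D.n - 2 - d) := by have := D.s_add_n; omega
    rw [hm, pow_add, pow_add] at h1
    exact (mul_dvd_mul_iff_right (pow_ne_zero _ (Data.hp' (p := p)).ne_zero)).mp (dvd_of_mul_right_dvd h1)
  rw [hcard, D.card_commutator, ← pow_succ']
  congr 1
  omega

omit hp2 hG hmc in
theorem card_commutator_subgroup (H : Subgroup G) :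
    Nat.card (commutator H) = Nat.card ↥(⁅H, H⁆ : Subgroup G) := by
  rw [← Subgroup.map_subtype_commutator, Subgroup.card_map_of_injective H.subtype_injective]

omit [Finite G] hp2 hG hmc in
theorem isMulCommutative_iff_le (H : Subgroup G) :
    IsMulCommutative H ↔ H ≤ Subgroup.centralizer (H : Set G) :=
  ⟨fun h _ hy => Subgroup.mem_centralizer_iff.mpr fun x hx =>
    congrArg Subtype.val (mul_comm' (⟨x, hx⟩ : H) ⟨_, hy⟩),
   fun h => ⟨⟨fun x y => Subtype.ext (Subgroup.mem_centralizer_iff.mp (h y.2) x x.2)⟩⟩⟩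

/-- A proper subgroup of a non-abelian metacyclic p-group lies in a maximal one, where both `|G|` and
`|G'|` drop by the factor `p`. -/
theorem exists_maximal (R : Subgroup G) (hR : R ≠ ⊤) (hna : ¬ IsMulCommutative G) :
    ∃ M : Subgroup G, R ≤ M ∧ Nat.card M < Nat.card G ∧ p * Nat.card M = Nat.card G ∧
      p * Nat.card (commutator M) = Nat.card (commutator G) := by
  obtain ⟨M, hM, hRM⟩ := (eq_top_or_exists_le_coatom R).resolve_left hR
  haveI := hG.isNilpotent
  haveI : M.Normal := Subgroup.NormalizerCondition.normal_of_coatom M Group.normalizerCondition_of_isNilpotent hM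
  have hMc : Nat.card M < Nat.card G := by
    refine lt_of_le_of_ne (Subgroup.card_le_card_group M) fun h => hM.1 ?_
    exact Subgroup.eq_top_of_card_eq M h
  refine ⟨M, hRM, hMc, ?_, by rw [card_commutator_subgroup]; exact card_commutator_maximal hp2 hG hmc M hM hna⟩
  obtain ⟨e, he⟩ := hG.index M
  have he0 : e ≠ 0 := by
    rintro rfl
    exact hM.1 (Subgroup.index_eq_one.mp (by rw [he, pow_zero]))
  obtain ⟨x, hx⟩ := exists_prime_orderOf_dvd_card' (G := G ⧸ M) p
    (by rw [← Subgroup.index, he]; exact dvd_pow_self p he0)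
  have hc := Basics.card_comap_mk' (Subgroup.zpowers x)
  rw [Nat.card_zpowers, hx] at hc
  have hle : M ≤ (Subgroup.zpowers x).comap (QuotientGroup.mk' M) := QuotientGroup.le_comap_mk' M _
  rcases hM.le_iff.mp hle with h | h
  · rw [h, Subgroup.card_top] at hc
    rw [hc, mul_comm]
  · rw [h] at hc
    have := Nat.card_pos (α := M)
    nlinarith [hp.out.two_le]

omit hp2 hG hmc in
theorem not_comm_subgroupOf {R M : Subgroup G} (hRM : R ≤ M) (hR : ¬ IsMulCommutative R) :
    ¬ IsMulCommutative (R.subgroupOf M) := fun h => hR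
  ⟨⟨fun x y => Subtype.ext (congrArg (fun z : R.subgroupOf M => ((z : M) : G))
    (mul_comm' (⟨⟨x, hRM x.2⟩, x.2⟩ : R.subgroupOf M) ⟨⟨y, hRM y.2⟩, y.2⟩))⟩⟩

/-- The commutator quotient has the same order for every non-abelian subgroup. -/
theorem card_mul_card_commutator (R : Subgroup G) (hR : ¬ IsMulCommutative R) :
    Nat.card R * Nat.card (commutator G) = Nat.card G * Nat.card ↥(⁅R, R⁆ : Subgroup G) := by
  induction hc : Nat.card G using Nat.strong_induction_on generalizing G with
  | _ N ih =>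
    subst hc
    by_cases hRtop : R = ⊤
    · subst hRtop
      rw [Subgroup.card_top, commutator_def]
    have hna : ¬ IsMulCommutative G := fun h => hR ⟨⟨fun x y => Subtype.ext (mul_comm' (x : G) y)⟩⟩
    obtain ⟨M, hRM, hMc, hidx, h3⟩ := exists_maximal hp2 hG hmc R hRtop hna
    have h1 := ih (Nat.card M) hMc (hG.to_subgroup M) (isMetacyclic_subgroup hmc M)
      (R.subgroupOf M) (not_comm_subgroupOf hRM hR) rfl
    have h2 : Nat.card ↥(⁅R.subgroupOf M, R.subgroupOf M⁆ : Subgroup M) =
        Nat.card ↥(⁅R, R⁆ : Subgroup G) := by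
      rw [← Subgroup.card_map_of_injective (K := ⁅R.subgroupOf M, R.subgroupOf M⁆) M.subtype_injective,
        Subgroup.map_commutator, Subgroup.map_subgroupOf_eq_of_le hRM]
    rw [Nat.card_congr (Subgroup.subgroupOfEquivOfLe hRM).toEquiv, h2] at h1
    rw [← hidx, ← h3]
    linear_combination p * h1

theorem card_mul_card_center_subgroup (R : Subgroup G) (hR : ¬ IsMulCommutative R) :
    Nat.card R * Nat.card (Subgroup.center R) = Nat.card G * Nat.card (Subgroup.center G) := by
  have h1 := card_mul_card_commutator hp2 hG hmc R hR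
  have h2 := card_center_mul hp2 (hG.to_subgroup R) (isMetacyclic_subgroup hmc R)
  have h3 := card_center_mul hp2 hG hmc
  rw [card_commutator_subgroup] at h2
  have h0 : 0 < Nat.card ↥(⁅R, R⁆ : Subgroup G) ^ 2 * Nat.card (commutator G) ^ 2 := by
    have := Nat.card_pos (α := ↥(⁅R, R⁆ : Subgroup G))
    have := Nat.card_pos (α := commutator G)
    positivity
  refine Nat.eq_of_mul_eq_mul_right h0 ?_
  calc Nat.card R * Nat.card (Subgroup.center R) *
        (Nat.card ↥(⁅R, R⁆ : Subgroup G) ^ 2 * Nat.card (commutator G) ^ 2)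
      = Nat.card R * (Nat.card (Subgroup.center R) * Nat.card ↥(⁅R, R⁆ : Subgroup G) ^ 2) *
          Nat.card (commutator G) ^ 2 := by ring
    _ = (Nat.card R * Nat.card (commutator G)) ^ 2 := by rw [h2]; ring
    _ = (Nat.card G * Nat.card ↥(⁅R, R⁆ : Subgroup G)) ^ 2 := by rw [h1]
    _ = Nat.card G * (Nat.card (Subgroup.center G) * Nat.card (commutator G) ^ 2) *
          Nat.card ↥(⁅R, R⁆ : Subgroup G) ^ 2 := by rw [h3]; ring
    _ = _ := by ring

/-- A non-abelian subgroup contains its centralizer. -/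
theorem centralizer_le_of_not_comm (R : Subgroup G) (hR : ¬ IsMulCommutative R) :
    Subgroup.centralizer (R : Set G) ≤ R := by
  intro c hc
  set R₂ := R ⊔ Subgroup.zpowers c with hR₂
  have hR₂' : ¬ IsMulCommutative R₂ := fun h => hR ((isMulCommutative_iff_le R).mpr
    ((le_sup_left.trans ((isMulCommutative_iff_le R₂).mp h)).trans
      (Subgroup.centralizer_le (SetLike.coe_subset_coe.mpr le_sup_left))))
  have hcent : Subgroup.zpowers c ≤ Subgroup.centralizer (R : Set G) := Subgroup.zpowers_le.mpr hc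
  have hcom : ⁅R₂, R₂⁆ = ⁅R, R⁆ := by
    refine le_antisymm ?_ (Subgroup.commutator_mono le_sup_left le_sup_left)
    have hmem : ∀ x ∈ R₂, ∃ u ∈ R, ∃ z ∈ Subgroup.zpowers c, x = u * z := fun x hx =>
      (Basics.mem_sup_of_le_normalizer (hcent.trans (Subgroup.centralizer_le_normalizer _))).mp hx
    rw [Subgroup.commutator_le]
    intro x hx y hy
    obtain ⟨u, hu, z, hz, rfl⟩ := hmem x hx
    obtain ⟨v, hv, w, hw, rfl⟩ := hmem y hy
    have e1 : v * z = z * v := Subgroup.mem_centralizer_iff.mp (hcent hz) v hv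
    have e2 : u⁻¹ * w = w * u⁻¹ := Subgroup.mem_centralizer_iff.mp (hcent hw) _ (inv_mem hu)
    have e3 : w * z⁻¹ = z⁻¹ * w := by
      obtain ⟨i, rfl⟩ := hz
      obtain ⟨j, rfl⟩ := hw
      exact ((Commute.refl c).zpow_zpow j i).inv_right.eq
    have he : ⁅u * z, v * w⁆ = ⁅u, v⁆ := by
      rw [commutatorElement_def, commutatorElement_def, mul_inv_rev, mul_inv_rev]
      calc u * z * (v * w) * (z⁻¹ * u⁻¹) * (w⁻¹ * v⁻¹)
          = u * (z * v) * (w * z⁻¹) * u⁻¹ * w⁻¹ * v⁻¹ := by group
        _ = u * (v * z) * (z⁻¹ * w) * u⁻¹ * w⁻¹ * v⁻¹ := by rw [e1, e3]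
        _ = u * v * (w * u⁻¹) * w⁻¹ * v⁻¹ := by group
        _ = _ := by rw [← e2]; group
    rw [he]
    exact Subgroup.commutator_mem_commutator hu hv
  have h1 := card_mul_card_commutator hp2 hG hmc R hR
  have h2 := card_mul_card_commutator hp2 hG hmc R₂ hR₂'
  rw [hcom, ← h1] at h2
  have hle : R₂ = R := (Subgroup.eq_of_le_of_card_ge le_sup_left
    (Nat.eq_of_mul_eq_mul_right Nat.card_pos h2).le).symm
  exact hle ▸ Subgroup.mem_sup_right (Subgroup.mem_zpowers c)

/-- The abelian subgroups have order at most `|G : G'|`. -/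
theorem card_le_of_comm (A : Subgroup G) (hA : IsMulCommutative A) :
    Nat.card A * Nat.card (commutator G) ≤ Nat.card G := by
  induction hc : Nat.card G using Nat.strong_induction_on generalizing G with
  | _ N ih =>
    subst hc
    by_cases hab : IsMulCommutative G
    · have hc : commutator G = ⊥ := by
        rw [commutator_def, Subgroup.commutator_eq_bot_iff_le_centralizer]
        exact fun x _ => Subgroup.mem_centralizer_iff.mpr fun y _ => mul_comm' y x
      rw [hc, Subgroup.card_bot, mul_one]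
      exact Subgroup.card_le_card_group A
    have htop : A ≠ ⊤ := by
      rintro rfl
      exact hab ⟨⟨fun x y => congrArg Subtype.val
        (mul_comm' (⟨x, Subgroup.mem_top x⟩ : (⊤ : Subgroup G)) ⟨y, Subgroup.mem_top y⟩)⟩⟩
    obtain ⟨M, hAM, hMc, hidx, h3⟩ := exists_maximal hp2 hG hmc A htop hab
    have h1 := ih (Nat.card M) hMc (hG.to_subgroup M) (isMetacyclic_subgroup hmc M)
      (A.subgroupOf M) ⟨⟨fun x y => Subtype.ext (Subtype.ext (congrArg (fun z : A => (z : G))
        (mul_comm' (⟨((x : M) : G), x.2⟩ : A) ⟨((y : M) : G), y.2⟩)))⟩⟩ rfl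
    rw [Nat.card_congr (Subgroup.subgroupOfEquivOfLe hAM).toEquiv] at h1
    rw [← hidx, ← h3, mul_left_comm]
    exact Nat.mul_le_mul_left p h1

/-- The centralizer of an element and the order of the element modulo the centre. -/
theorem card_sup_center_mul_card_centralizer (u : G) :
    Nat.card ↥(Subgroup.zpowers u ⊔ Subgroup.center G) * Nat.card ↥(Subgroup.centralizer ({u} : Set G)) =
      Nat.card G * Nat.card (Subgroup.center G) := by
  obtain ⟨D⟩ := nonempty_data hG hmc
  classical
  -- the largest layer containing `u`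
  set e := Nat.findGreatest (fun t => u ∈ D.layer t) D.n with he
  have hu0 : u ∈ D.layer 0 := by rw [D.layer_zero]; exact Subgroup.mem_top u
  have hu : u ∈ D.layer e := Nat.findGreatest_spec (P := fun t => u ∈ D.layer t) (Nat.zero_le _) hu0
  have hen : e ≤ D.n := Nat.findGreatest_le _
  have hidx : (Subgroup.centralizer ({u} : Set G)).index = p ^ (D.n - e) := by
    refine le_antisymm (D.index_centralizer_le hen hp2 hu) ?_
    rcases hen.lt_or_eq with h | h
    · exact D.le_index_centralizer h hp2 (Nat.findGreatest_is_greatest (Nat.lt_succ_self e) h)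
    · rw [h, Nat.sub_self, pow_zero]; exact Nat.one_le_iff_ne_zero.mpr Subgroup.index_ne_zero_of_finite
  have hord : ∀ t, u ^ p ^ t ∈ Subgroup.center G ↔ D.n - e ≤ t := by
    obtain ⟨i, j, rfl⟩ := D.exists_repr u
    intro t
    have hg : ∀ x, (p : ℤ) ^ x ∣ geom (D.r ^ j) (p ^ t) ↔ p ^ x ∣ p ^ t := fun x => by
      refine dvd_geom_iff hp2 ?_ x _
      rw [← sub_one_mul_geom]
      exact dvd_mul_of_dvd_left D.dvd_r _
    obtain ⟨w, hw⟩ := (hg t).mpr dvd_rfl
    have hpw : ¬ (p : ℤ) ∣ w := fun ⟨x, hx⟩ => by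
      have := (hg (t + 1)).mp ⟨x, by rw [hw, hx, pow_succ]; ring⟩
      rw [Nat.pow_dvd_pow_iff_le_right hp.out.one_lt] at this
      omega
    rw [D.pow_form, D.mem_center_iff hp2, hw]
    constructor
    · rintro ⟨h1, h2⟩
      by_contra hlt
      have h3 : D.a ^ i * D.b ^ j ∈ D.layer (D.n - t) := by
        rw [D.mem_layer_iff hp2 (Nat.sub_le _ _)]
        rw [show D.n = (D.n - t) + t by omega, pow_add, ← mul_assoc, mul_comm ((i * _) : ℤ) w,
          ← mul_assoc, mul_comm w i] at h1
        rw [show D.n = (D.n - t) + t by omega, pow_add] at h2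
        refine ⟨(Data.hp' (p := p)).pow_dvd_of_dvd_mul_right _ hpw ?_,
          (Nat.mul_dvd_mul_iff_right (pow_pos hp.out.pos t)).mp h2⟩
        refine (mul_dvd_mul_iff_right (pow_ne_zero t (Data.hp' (p := p)).ne_zero)).mp ?_
        calc (p : ℤ) ^ (D.n - t) * (p : ℤ) ^ t ∣ _ := h1
          _ = i * w * (p : ℤ) ^ t := by ring
      exact Nat.findGreatest_is_greatest (show e < D.n - t by omega) (Nat.sub_le _ _) h3
    · intro ht
      obtain ⟨h1, h2⟩ := (D.mem_layer_iff hp2 hen i j).mp hu
      refine ⟨(pow_dvd_pow (p : ℤ) (show D.n ≤ e + t by omega)).trans ?_,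
        (pow_dvd_pow p (show D.n ≤ e + t by omega)).trans ?_⟩
      · rw [pow_add, ← mul_assoc]
        exact dvd_mul_of_dvd_left (mul_dvd_mul h1 dvd_rfl) w
      · rw [pow_add]
        exact mul_dvd_mul h2 dvd_rfl
  obtain ⟨d, hd⟩ := IsPGroup.iff_orderOf.mp (hG.to_quotient (Subgroup.center G))
    (u : G ⧸ Subgroup.center G)
  have hd' : d = D.n - e := by
    have h1 : ∀ t, D.n - e ≤ t ↔ d ≤ t := fun t => by
      rw [← hord, ← QuotientGroup.eq_one_iff, QuotientGroup.mk_pow, ← orderOf_dvd_iff_pow_eq_one, hd,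
        Nat.pow_dvd_pow_iff_le_right hp.out.one_lt]
    exact le_antisymm ((h1 _).mp le_rfl) ((h1 _).mpr le_rfl)
  have hcard : Nat.card ↥(Subgroup.zpowers u ⊔ Subgroup.center G) =
      Nat.card (Subgroup.center G) * p ^ (D.n - e) := by
    have h := Basics.card_comap_mk' (Subgroup.zpowers (u : G ⧸ Subgroup.center G))
    rw [Nat.card_zpowers, hd, hd'] at h
    rw [← h]
    congr 2
    rw [show Subgroup.zpowers (u : G ⧸ Subgroup.center G) =
      (Subgroup.zpowers u).map (QuotientGroup.mk' (Subgroup.center G)) from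
        (MonoidHom.map_zpowers (QuotientGroup.mk' (Subgroup.center G)) u).symm,
      Subgroup.comap_map_eq, QuotientGroup.ker_mk']
  rw [hcard, ← Subgroup.card_mul_index (Subgroup.centralizer ({u} : Set G)), hidx]
  ring

/-- Duality: `|R| |C(R)| = |G| |Z(G)|` for `R ≥ Z(G)`. -/
theorem card_mul_card_centralizer (R : Subgroup G) (hR : Subgroup.center G ≤ R) :
    Nat.card R * Nat.card (Subgroup.centralizer (R : Set G)) =
      Nat.card G * Nat.card (Subgroup.center G) := by
  by_cases hRa : IsMulCommutative R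
  swap
  · have h := card_mul_card_center_subgroup hp2 hG hmc R hRa
    rw [← h]
    congr 1
    have e : (Subgroup.center R).map R.subtype = Subgroup.centralizer (R : Set G) := by
      ext x
      constructor
      · rintro ⟨y, hy, rfl⟩
        exact Subgroup.mem_centralizer_iff.mpr fun z hz =>
          congrArg Subtype.val (Subgroup.mem_center_iff.mp hy ⟨z, hz⟩)
      · intro hx
        exact ⟨⟨x, centralizer_le_of_not_comm hp2 hG hmc R hRa hx⟩,
          Subgroup.mem_center_iff.mpr fun z => Subtype.ext (Subgroup.mem_centralizer_iff.mp hx z z.2), rfl⟩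
    rw [← e, Subgroup.card_map_of_injective R.subtype_injective]
  -- two generators of `R`
  obtain ⟨D'⟩ := nonempty_data (hG.to_subgroup R) (isMetacyclic_subgroup hmc R)
  set u : G := (D'.a : G) with hu
  set v : G := (D'.b : G) with hv
  have hgen : R = (Subgroup.zpowers u ⊔ Subgroup.zpowers v) := by
    refine le_antisymm (fun x hx => ?_) (sup_le (Subgroup.zpowers_le.mpr D'.a.2) (Subgroup.zpowers_le.mpr D'.b.2))
    obtain ⟨i, j, h⟩ := D'.exists_repr ⟨x, hx⟩
    rw [show x = u ^ i * v ^ j from congrArg Subtype.val h]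
    exact Subgroup.mul_mem_sup (zpow_mem (Subgroup.mem_zpowers u) i) (pow_mem (Subgroup.mem_zpowers v) j)
  set H := Subgroup.centralizer ({u} : Set G) with hH
  have hK := card_sup_center_mul_card_centralizer hp2 hG hmc u
  rw [← hH] at hK
  have hRH : R ≤ H := fun x hx => Subgroup.mem_centralizer_singleton_iff.mpr
    (congrArg Subtype.val (mul_comm' (⟨x, hx⟩ : R) D'.a))
  have hUR : Subgroup.zpowers u ⊔ Subgroup.center G ≤ R := sup_le (Subgroup.zpowers_le.mpr D'.a.2) hR
  have hCR : Subgroup.centralizer (R : Set G) = H ⊓ Subgroup.centralizer ({v} : Set G) := by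
    refine le_antisymm (le_inf (Subgroup.centralizer_le (by simp [u])) (Subgroup.centralizer_le (by simp [v]))) ?_
    intro x hx
    refine Subgroup.le_centralizer_iff.mp ?_ (Subgroup.mem_zpowers x)
    rw [hgen, sup_le_iff, Subgroup.zpowers_le, Subgroup.zpowers_le]
    refine ⟨Subgroup.mem_centralizer_iff.mpr ?_, Subgroup.mem_centralizer_iff.mpr ?_⟩ <;>
      rintro _ ⟨k, rfl⟩
    · exact ((Commute.zpow_left (Subgroup.mem_centralizer_singleton_iff.mp hx.1) k)).eq
    · exact ((Commute.zpow_left (Subgroup.mem_centralizer_singleton_iff.mp hx.2) k)).eq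
  by_cases hHa : IsMulCommutative H
  · -- then `R = H` is a maximal abelian subgroup
    have h1 := card_le_of_comm hp2 hG hmc H hHa
    have h3 := card_center_mul hp2 hG hmc
    have hle : Nat.card H ≤ Nat.card ↥(Subgroup.zpowers u ⊔ Subgroup.center G) := by
      have h4 : Nat.card H * Nat.card H ≤ Nat.card G * Nat.card (Subgroup.center G) := by
        have hpos : 0 < Nat.card (commutator G) ^ 2 := pow_pos Nat.card_pos 2
        refine Nat.le_of_mul_le_mul_right ?_ hpos
        calc Nat.card H * Nat.card H * Nat.card (commutator G) ^ 2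
            = (Nat.card H * Nat.card (commutator G)) ^ 2 := by ring
          _ ≤ Nat.card G ^ 2 := Nat.pow_le_pow_left h1 2
          _ = _ := by rw [mul_assoc, h3, pow_two]
      rw [← hK] at h4
      exact Nat.le_of_mul_le_mul_right h4 Nat.card_pos
    have hUH := Subgroup.eq_of_le_of_card_ge (hUR.trans hRH) hle
    have hRH' : R = H := le_antisymm hRH (hUH ▸ hUR)
    have hC : Subgroup.centralizer (R : Set G) = H := by
      rw [hCR, inf_eq_left]
      intro x hx
      exact Subgroup.mem_centralizer_singleton_iff.mpr (congrArg Subtype.val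
        (mul_comm' (⟨x, hx⟩ : H) ⟨v, hRH D'.b.2⟩))
    rw [hC, hRH', ← hK, hUH]
  · -- work inside `H`
    have hZH := card_mul_card_center_subgroup hp2 hG hmc H hHa
    have hUZ : Subgroup.center H = (Subgroup.zpowers u ⊔ Subgroup.center G).subgroupOf H := by
      refine (Subgroup.eq_of_le_of_card_ge ?_ ?_).symm
      · intro x hx
        have hx : (x : G) ∈ Subgroup.zpowers u ⊔ Subgroup.center G := hx
        rw [Subgroup.mem_center_iff]
        intro y
        have hle : Subgroup.zpowers u ⊔ Subgroup.center G ≤ Subgroup.centralizer (H : Set G) :=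
          sup_le (Subgroup.zpowers_le.mpr (Subgroup.mem_centralizer_iff.mpr fun z hz =>
            Subgroup.mem_centralizer_singleton_iff.mp hz)) (Subgroup.center_le_centralizer _)
        exact Subtype.ext (Subgroup.mem_centralizer_iff.mp (hle hx) y y.2)
      · rw [Nat.card_congr (Subgroup.subgroupOfEquivOfLe (hUR.trans hRH)).toEquiv]
        refine le_of_eq (Nat.eq_of_mul_eq_mul_left (Nat.card_pos (α := H)) ?_)
        rw [hZH, ← hK, mul_comm]
    have hv' := card_sup_center_mul_card_centralizer hp2 (hG.to_subgroup H)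
      (isMetacyclic_subgroup hmc H) ⟨v, hRH D'.b.2⟩
    rw [← hZH, ← hv']
    congr 1
    · have e : Subgroup.zpowers (⟨v, hRH D'.b.2⟩ : H) ⊔ Subgroup.center H = R.subgroupOf H := by
        rw [hUZ, show Subgroup.zpowers (⟨v, hRH D'.b.2⟩ : H) = (Subgroup.zpowers v).subgroupOf H by
          ext x
          constructor
          · rintro ⟨k, rfl⟩; exact ⟨k, by simp⟩
          · rintro ⟨k, hk⟩; exact ⟨k, Subtype.ext (by simpa using hk)⟩,
          ← Subgroup.subgroupOf_sup (Subgroup.zpowers_le.mpr (hRH D'.b.2)) (hUR.trans hRH)]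
        congr 1
        refine le_antisymm (sup_le (Subgroup.zpowers_le.mpr D'.b.2) hUR) ?_
        conv_lhs => rw [hgen]
        exact sup_le (le_sup_of_le_right le_sup_left) le_sup_left
      rw [e, Nat.card_congr (Subgroup.subgroupOfEquivOfLe hRH).toEquiv]
    · rw [hCR, ← Subgroup.card_map_of_injective (K := Subgroup.centralizer _) H.subtype_injective]
      congr 2
      ext x
      constructor
      · rintro ⟨hx1, hx2⟩
        exact ⟨⟨x, hx1⟩, Subgroup.mem_centralizer_singleton_iff.mpr
          (Subtype.ext (Subgroup.mem_centralizer_singleton_iff.mp hx2)), rfl⟩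
      · rintro ⟨y, hy, rfl⟩
        exact ⟨y.2, Subgroup.mem_centralizer_singleton_iff.mpr
          (congrArg Subtype.val (Subgroup.mem_centralizer_singleton_iff.mp hy))⟩

end Cfsg.Agent.Metacyclic
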